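import Groth.Agent.Lib.AssPt.Modules
import Groth.Agent.Lib.CohBasics.Closure
import Groth.Agent.Lib.QCoh.Localizing
import Mathlib.Algebra.Category.ModuleCat.Presheaf.Submodule
import Mathlib.Topology.Sheaves.SheafCondition.UniqueGluing
import Mathlib.AlgebraicGeometry.Noetherian
import Mathlib.RingTheory.Ideal.MinimalPrime.Noetherian
import Mathlib.Topology.Sober

/-!
# Sections vanishing at the maximal points of the support
-/

set_option autoImplicit false
set_option linter.style.haveILetI false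
universe u

open CategoryTheory CategoryTheory.Limits AlgebraicGeometry Opposite TopologicalSpace

namespace Groth.Agent.H2.MaxSupp

open Groth.Agent.Lib

noncomputable section

variable {X : Scheme.{u}} (F : X.Modules)

/-- A maximal point of the support. -/
def IsMax (η : X) : Prop :=
  η ∈ CohB1.support F ∧ ∀ y ∈ CohB1.support F, y ⤳ η → y = η

theorem exists_isMax (hc : IsClosed (CohB1.support F)) {x : X} (hx : x ∈ CohB1.support F) :
    ∃ η, IsMax F η ∧ η ⤳ x := by
  let C := CohB1.support F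
  let Z : Set C := irreducibleComponent (⟨x, hx⟩ : C)
  have hZi : _root_.IsIrreducible (Subtype.val '' Z : Set X) :=
    isIrreducible_irreducibleComponent.image _ continuous_subtype_val.continuousOn
  have hZc : IsClosed (Subtype.val '' Z : Set X) :=
    hc.isClosedEmbedding_subtypeVal.isClosedMap _ isClosed_irreducibleComponent
  obtain ⟨η, hη⟩ := QuasiSober.sober hZi hZc
  have hgen : closure ({η} : Set X) = Subtype.val '' Z := hη
  have hηZ : η ∈ (Subtype.val '' Z : Set X) := hgen ▸ subset_closure rfl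
  have hηC : η ∈ C := by obtain ⟨z, -, rfl⟩ := hηZ; exact z.2
  refine ⟨η, ⟨hηC, fun y hy hyη => ?_⟩, ?_⟩
  · let W : Set C := closure {⟨y, hy⟩}
    have hsub : Z ⊆ W := fun z hz => by
      have h1 : η ⤳ z.1 := specializes_iff_mem_closure.mpr (hgen ▸ ⟨z, hz, rfl⟩)
      exact specializes_iff_mem_closure.mp ((subtype_specializes_iff _ z).mpr (hyη.trans h1))
    have heq : Z = W :=
      (eq_irreducibleComponent isIrreducible_singleton.isPreirreducible.closure hsub).symm
    have hyZ : y ∈ (Subtype.val '' Z : Set X) := ⟨⟨y, hy⟩, heq ▸ subset_closure rfl, rfl⟩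
    exact (hyη.antisymm (specializes_iff_mem_closure.mpr (hgen ▸ hyZ))).eq
  · exact specializes_iff_mem_closure.mpr (hgen ▸ ⟨⟨x, hx⟩, mem_irreducibleComponent, rfl⟩)

variable {F}

theorem finite_isMax [IsLocallyNoetherian X] (hF : Coh.IsCoh F) {U : X.Opens}
    (hU : IsAffineOpen U) : {η : X | η ∈ U ∧ IsMax F η}.Finite := by
  haveI : F.IsQuasicoherent := hF.1
  haveI : IsNoetherianRing Γ(X, U) := IsLocallyNoetherian.component_noetherian ⟨U, hU⟩
  haveI := CohBasics.Closure.finite_sections hF hU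
  obtain ⟨s, hs⟩ := Module.Finite.fg_top (R := Γ(X, U)) (M := Γ(F, U))
  let J : Γ(F, U) → Ideal Γ(X, U) := fun t => (⊥ : Submodule Γ(X, U) Γ(F, U)).colon {t}
  classical
  let P : X → Ideal Γ(X, U) := fun η =>
    if h : η ∈ U then (hU.primeIdealOf ⟨η, h⟩).asIdeal else ⊥
  refine Set.Finite.of_finite_image (f := P)
    ((Set.Finite.biUnion s.finite_toSet
      (fun t _ => Ideal.finite_minimalPrimes_of_isNoetherianRing _ (J t))).subset ?_) ?_
  · rintro _ ⟨η, ⟨hη, hm⟩, rfl⟩
    have hP : P η = (hU.primeIdealOf ⟨η, hη⟩).asIdeal := dif_pos hη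
    obtain ⟨t, ht, ht0⟩ : ∃ t ∈ s, F.presheaf.germ U η hη t ≠ 0 := by
      by_contra hc
      push Not at hc
      have h := CohBasics.Affine.germ_span_eq_top hU (s : Set Γ(F, U)) hs (x := η) hη
      rw [Submodule.span_eq_bot.mpr (by rintro _ ⟨t, ht, rfl⟩; exact hc t ht)] at h
      exact hm.1 ((Submodule.eq_bot_iff _).mp h.symm |> fun h0 =>
        subsingleton_of_forall_eq 0 fun v => h0 v trivial)
    obtain ⟨y, hy, hyη, -, hy0⟩ := AssPt.Modules.exists_assPoint_of_germ_ne_zero hU t hη ht0
    have hys : y ∈ CohB1.support F := fun hsub => hy0 (Subsingleton.elim _ _)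
    obtain rfl := hm.2 y hys hyη
    simp only [Set.mem_iUnion]
    refine ⟨t, ht, ?_⟩
    rw [hP]
    set p := (hU.primeIdealOf ⟨y, hy⟩).asIdeal
    have hJp : J t ≤ p := fun r hr => by
      by_contra hrp
      exact hy0 ((StalkLoc.Basic.germ_eq_zero_iff hU hy t).mpr
        ⟨r, (Lib.Ideal.EffCartier.mem_basicOpen_iff_notMem_prime hU hy r).mpr hrp,
          Submodule.mem_colon_singleton.mp hr⟩)
    obtain ⟨q, hq, hqp⟩ := Ideal.exists_minimalPrimes_le hJp
    haveI : q.IsPrime := hq.1.1
    obtain ⟨z, hz, rfl⟩ := AssPt.Basic.exists_point_of_prime hU q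
    have hzs : z ∈ CohB1.support F :=
      AssPt.Modules.nontrivial_stalk_of_assPoint ((AssPt.Modules.isAssPoint_iff hU hz).mpr ⟨t, hq⟩)
    obtain rfl := hm.2 z hzs ((AssPt.Basic.specializes_iff_primeIdealOf hU hy hz).mpr hqp)
    exact hq
  · rintro a ⟨ha, -⟩ b ⟨hb, -⟩ hab
    rw [show P a = _ from dif_pos ha, show P b = _ from dif_pos hb] at hab
    have h := congrArg hU.fromSpec (PrimeSpectrum.ext hab)
    rwa [hU.fromSpec_primeIdealOf, hU.fromSpec_primeIdealOf] at h

/-- The condition on sections. -/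
def Cond (F : X.Modules) {W : X.Opens} (s : Γ(F, W)) : Prop :=
  ∀ η (hη : η ∈ W), IsMax F η → F.presheaf.germ W η hη s = 0

variable (F)

/-- The submodule of sections satisfying the condition. -/
def sub : PresheafOfModules.Submodule F.val where
  obj W :=
    { carrier := {s | Cond F (W := W.unop) s}
      zero_mem' := fun η hη _ => map_zero (F.presheaf.germ W.unop η hη).hom
      add_mem' := fun {s t} hs ht η hη hm =>
        (map_add (F.presheaf.germ W.unop η hη).hom
          (show Γ(F, W.unop) from s) (show Γ(F, W.unop) from t)).trans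
          (by rw [hs η hη hm, ht η hη hm, add_zero])
      smul_mem' := fun r s hs η hη hm =>
        (Modules.StalkModule.germ_smul hη (show Γ(X, W.unop) from r) (show Γ(F, W.unop) from s)).trans
          (by rw [hs η hη hm, smul_zero]) }
  map {W W'} i := fun s hs η hη hm =>
    (TopCat.Presheaf.germ_res_apply F.presheaf i.unop η hη s).trans (hs η (i.unop.le hη) hm)

/-- The largest submodule with nowhere dense support. -/
def K : X.Modules where
  val := (sub F).toPresheafOfModules
  isSheaf := by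
    refine (TopCat.Presheaf.isSheaf_iff_isSheafUniqueGluing
      (X := X.carrier) (F := (sub F).toPresheafOfModules.presheaf)).2 fun ι U sf hsf => ?_
    let G : TopCat.Sheaf AddCommGrpCat.{u} X := ⟨F.presheaf, F.isSheaf⟩
    obtain ⟨s, hs, huniq⟩ := G.existsUnique_gluing U (fun i => ((sf i).1 : Γ(F, U i)))
      fun i j => congrArg Subtype.val (hsf i j)
    have hmem : Cond F (W := iSup U) s := by
      intro η hη hm
      obtain ⟨i, hi⟩ := Opens.mem_iSup.1 hη
      rw [← TopCat.Presheaf.germ_res_apply F.presheaf (Opens.leSupr U i) η hi s]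
      exact (congrArg (F.presheaf.germ (U i) η hi) (hs i)).trans ((sf i).2 η hi hm)
    refine ⟨⟨s, hmem⟩, fun i => Subtype.ext (hs i), fun t ht => Subtype.ext (huniq t.1 fun i => ?_)⟩
    exact congrArg Subtype.val (ht i)

/-- The inclusion. -/
def ι : K F ⟶ F := ⟨(sub F).ι⟩

theorem ι_app_injective (W : X.Opens) : Function.Injective ((ι F).app W) :=
  fun _ _ h => Subtype.ext h

instance : Mono (ι F) := (Modules.Stalk.mono_iff_app_injective _).2 (ι_app_injective F)

variable {F}

theorem exists_ι_app {W : X.Opens} {s : Γ(F, W)} (h : Cond F s) :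
    ∃ t : Γ(K F, W), (ι F).app W t = s := ⟨⟨s, h⟩, rfl⟩

theorem cond_ι_app {W : X.Opens} (t : Γ(K F, W)) : Cond F ((ι F).app W t) := t.2

theorem stalk_K_subsingleton {η : X} (hm : IsMax F η) : Subsingleton ((K F).presheaf.stalk η) := by
  refine subsingleton_of_forall_eq 0 fun v => ?_
  obtain ⟨W, hW, t, rfl⟩ := TopCat.Presheaf.exists_germ_eq (K F).presheaf v
  apply (Modules.StalkModule.mono_iff_stalkMapₗ_injective (ι F)).mp inferInstance η
  rw [map_zero, Modules.StalkModule.stalkMapₗ_germ]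
  exact cond_ι_app t η hW hm

/-- Some power of a function vanishing at a maximal point of the support kills a germ there. -/
theorem exists_pow_smul_germ_eq_zero [F.IsQuasicoherent] {U : X.Opens} (hU : IsAffineOpen U)
    {η : X} (hη : η ∈ U) (hm : IsMax F η) (t : Γ(F, U)) {f : Γ(X, U)} (hf : η ∉ X.basicOpen f) :
    ∃ N : ℕ, F.presheaf.germ U η hη (f ^ N • t) = 0 := by
  let p := (hU.primeIdealOf ⟨η, hη⟩).asIdeal
  let J := (⊥ : Submodule Γ(X, U) Γ(F, U)).colon {t}
  by_contra hc
  push Not at hc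
  let S : Submonoid Γ(X, U) := p.primeCompl ⊔ Submonoid.powers f
  have hdis : Disjoint (J : Set Γ(X, U)) S := by
    rw [Set.disjoint_left]
    intro r hr hrS
    obtain ⟨g, hg, _, ⟨N, rfl⟩, rfl⟩ := Submonoid.mem_sup.mp hrS
    refine hc N ((StalkLoc.Basic.germ_eq_zero_iff hU hη _).mpr
      ⟨g, (Lib.Ideal.EffCartier.mem_basicOpen_iff_notMem_prime hU hη g).mpr hg, ?_⟩)
    rw [smul_smul]
    exact Submodule.mem_colon_singleton.mp hr
  obtain ⟨q, hq, hJq, hqS⟩ := Ideal.exists_le_prime_disjoint J S hdis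
  obtain ⟨y, hy, rfl⟩ := AssPt.Basic.exists_point_of_prime hU q
  have hle : (hU.primeIdealOf ⟨y, hy⟩).asIdeal ≤ p := fun r hr => by
    by_contra hrp
    exact Set.disjoint_left.mp hqS hr (Submonoid.mem_sup_left (show r ∈ p.primeCompl from hrp))
  have hys : y ∈ CohB1.support F := by
    intro hsub
    obtain ⟨g, hyg, hgt⟩ := (StalkLoc.Basic.germ_eq_zero_iff hU hy t).mp (Subsingleton.elim _ _)
    exact (Lib.Ideal.EffCartier.mem_basicOpen_iff_notMem_prime hU hy g).mp hyg
      (hJq (Submodule.mem_colon_singleton.mpr hgt))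
  obtain rfl := hm.2 y hys ((AssPt.Basic.specializes_iff_primeIdealOf hU hη hy).mpr hle)
  exact Set.disjoint_left.mp hqS
    (not_not.mp (mt (Lib.Ideal.EffCartier.mem_basicOpen_iff_notMem_prime hU hy f).mpr hf))
    (Submonoid.mem_sup_right (Submonoid.mem_powers f))

theorem localizes_K [IsLocallyNoetherian X] (hF : Coh.IsCoh F) {U : X.Opens} (hU : IsAffineOpen U)
    (f : Γ(X, U)) : QCoh.Localizing.Localizes (K F) f := by
  haveI : F.IsQuasicoherent := hF.1
  have hl := QCoh.Localizing.localizes_of_isAffineOpen F hU f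
  refine ⟨fun s => ?_, fun t ht => ?_⟩
  · obtain ⟨n, t, ht⟩ := hl.ext' ((ι F).app _ s)
    have hfin := (finite_isMax hF hU).subset (fun η (h : η ∈ {η | (η ∈ U ∧ η ∉ X.basicOpen f) ∧ IsMax F η}) => ⟨h.1.1, h.2⟩)
    choose! N hN using fun η (h : η ∈ {η | (η ∈ U ∧ η ∉ X.basicOpen f) ∧ IsMax F η}) =>
      exists_pow_smul_germ_eq_zero hU h.1.1 h.2 t h.1.2
    let M := hfin.toFinset.sup N
    have hcond : Cond F (f ^ M • t) := by
      intro η hη hm
      by_cases hf : η ∈ X.basicOpen f
      · rw [Modules.StalkModule.germ_smul, ← TopCat.Presheaf.germ_res_apply F.presheaf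
          (homOfLE (X.basicOpen_le f)) η hf t,
          show F.presheaf.map (homOfLE (X.basicOpen_le f)).op t = _ from ht,
          Modules.StalkModule.germ_smul, cond_ι_app s η hf hm, smul_zero, smul_zero]
      · obtain ⟨k, hk⟩ := Nat.exists_eq_add_of_le
          (Finset.le_sup (f := N) (hfin.mem_toFinset.mpr ⟨⟨hη, hf⟩, hm⟩) : N η ≤ M)
        rw [show M = N η + k from hk, add_comm, pow_add, mul_smul, Modules.StalkModule.germ_smul,
          hN η ⟨⟨hη, hf⟩, hm⟩, smul_zero]
    obtain ⟨t', ht'⟩ := exists_ι_app hcond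
    refine ⟨M + n, t', ι_app_injective F _ ?_⟩
    rw [← QCoh.Localizing.res_app, ht', QCoh.Localizing.res_smul, ht, Scheme.Modules.Hom.app_smul,
      map_pow, smul_smul, pow_add]
  · obtain ⟨n, hn⟩ := hl.sep ((ι F).app U t) (by rw [QCoh.Localizing.res_app, ht, map_zero])
    exact ⟨n, ι_app_injective F _ (by rw [Scheme.Modules.Hom.app_smul, hn, map_zero])⟩

theorem isCoh_K [IsLocallyNoetherian X] (hF : Coh.IsCoh F) : Coh.IsCoh (K F) := by
  haveI : (K F).IsQuasicoherent := QCoh.Localizing.isQCoh_of_forall_exists_localizes fun x => by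
    obtain ⟨U, hU, hx, -⟩ := exists_isAffineOpen_mem_and_subset (x := x) (U := ⊤) trivial
    exact ⟨U, hU, hx, fun f => localizes_K hF hU f⟩
  exact CohBasics.Closure.isCoh_of_mono (ι F) hF

end

end Groth.Agent.H2.MaxSupp
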